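import Cfsg.Agent.CosetEnum.Fi23.Table

/-! Generated: checks of the orbit labels. -/

set_option autoImplicit false
set_option maxRecDepth 100000

namespace CfsgLib.CosetEnum.Fi23.Tab

open CfsgLib.CosetEnum

theorem orbitH0 : allFrom (checkOrbit CfsgLib.CosetEnum.Fi23.H.TF 10 wordsH labH rankH oparH ogenH rootH 31671) 0 1029 = true := by
  decide +kernel

theorem orbitH1029 : allFrom (checkOrbit CfsgLib.CosetEnum.Fi23.H.TF 10 wordsH labH rankH oparH ogenH rootH 31671) 1029 1029 = true := by
  decide +kernel

theorem orbitH2058 : allFrom (checkOrbit CfsgLib.CosetEnum.Fi23.H.TF 10 wordsH labH rankH oparH ogenH rootH 31671) 2058 1029 = true := by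
  decide +kernel

theorem orbitH3087 : allFrom (checkOrbit CfsgLib.CosetEnum.Fi23.H.TF 10 wordsH labH rankH oparH ogenH rootH 31671) 3087 1029 = true := by
  decide +kernel

theorem orbitH4116 : allFrom (checkOrbit CfsgLib.CosetEnum.Fi23.H.TF 10 wordsH labH rankH oparH ogenH rootH 31671) 4116 1029 = true := by
  decide +kernel

theorem orbitH5145 : allFrom (checkOrbit CfsgLib.CosetEnum.Fi23.H.TF 10 wordsH labH rankH oparH ogenH rootH 31671) 5145 1029 = true := by
  decide +kernel

theorem orbitH6174 : allFrom (checkOrbit CfsgLib.CosetEnum.Fi23.H.TF 10 wordsH labH rankH oparH ogenH rootH 31671) 6174 1029 = true := by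
  decide +kernel

theorem orbitH7203 : allFrom (checkOrbit CfsgLib.CosetEnum.Fi23.H.TF 10 wordsH labH rankH oparH ogenH rootH 31671) 7203 1029 = true := by
  decide +kernel

theorem orbitH8232 : allFrom (checkOrbit CfsgLib.CosetEnum.Fi23.H.TF 10 wordsH labH rankH oparH ogenH rootH 31671) 8232 1029 = true := by
  decide +kernel

theorem orbitH9261 : allFrom (checkOrbit CfsgLib.CosetEnum.Fi23.H.TF 10 wordsH labH rankH oparH ogenH rootH 31671) 9261 1029 = true := by
  decide +kernel

theorem orbitH10290 : allFrom (checkOrbit CfsgLib.CosetEnum.Fi23.H.TF 10 wordsH labH rankH oparH ogenH rootH 31671) 10290 1029 = true := by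
  decide +kernel

theorem orbitH11319 : allFrom (checkOrbit CfsgLib.CosetEnum.Fi23.H.TF 10 wordsH labH rankH oparH ogenH rootH 31671) 11319 1029 = true := by
  decide +kernel

theorem orbitH12348 : allFrom (checkOrbit CfsgLib.CosetEnum.Fi23.H.TF 10 wordsH labH rankH oparH ogenH rootH 31671) 12348 1029 = true := by
  decide +kernel

theorem orbitH13377 : allFrom (checkOrbit CfsgLib.CosetEnum.Fi23.H.TF 10 wordsH labH rankH oparH ogenH rootH 31671) 13377 1029 = true := by
  decide +kernel

theorem orbitH14406 : allFrom (checkOrbit CfsgLib.CosetEnum.Fi23.H.TF 10 wordsH labH rankH oparH ogenH rootH 31671) 14406 1029 = true := by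
  decide +kernel

theorem orbitH15435 : allFrom (checkOrbit CfsgLib.CosetEnum.Fi23.H.TF 10 wordsH labH rankH oparH ogenH rootH 31671) 15435 1029 = true := by
  decide +kernel

theorem orbitH16464 : allFrom (checkOrbit CfsgLib.CosetEnum.Fi23.H.TF 10 wordsH labH rankH oparH ogenH rootH 31671) 16464 1029 = true := by
  decide +kernel

theorem orbitH17493 : allFrom (checkOrbit CfsgLib.CosetEnum.Fi23.H.TF 10 wordsH labH rankH oparH ogenH rootH 31671) 17493 1029 = true := by
  decide +kernel

theorem orbitH18522 : allFrom (checkOrbit CfsgLib.CosetEnum.Fi23.H.TF 10 wordsH labH rankH oparH ogenH rootH 31671) 18522 1029 = true := by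
  decide +kernel

theorem orbitH19551 : allFrom (checkOrbit CfsgLib.CosetEnum.Fi23.H.TF 10 wordsH labH rankH oparH ogenH rootH 31671) 19551 1029 = true := by
  decide +kernel

theorem orbitH20580 : allFrom (checkOrbit CfsgLib.CosetEnum.Fi23.H.TF 10 wordsH labH rankH oparH ogenH rootH 31671) 20580 1029 = true := by
  decide +kernel

theorem orbitH21609 : allFrom (checkOrbit CfsgLib.CosetEnum.Fi23.H.TF 10 wordsH labH rankH oparH ogenH rootH 31671) 21609 1029 = true := by
  decide +kernel

theorem orbitH22638 : allFrom (checkOrbit CfsgLib.CosetEnum.Fi23.H.TF 10 wordsH labH rankH oparH ogenH rootH 31671) 22638 1029 = true := by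
  decide +kernel

theorem orbitH23667 : allFrom (checkOrbit CfsgLib.CosetEnum.Fi23.H.TF 10 wordsH labH rankH oparH ogenH rootH 31671) 23667 1029 = true := by
  decide +kernel

theorem orbitH24696 : allFrom (checkOrbit CfsgLib.CosetEnum.Fi23.H.TF 10 wordsH labH rankH oparH ogenH rootH 31671) 24696 1029 = true := by
  decide +kernel

theorem orbitH25725 : allFrom (checkOrbit CfsgLib.CosetEnum.Fi23.H.TF 10 wordsH labH rankH oparH ogenH rootH 31671) 25725 1029 = true := by
  decide +kernel

theorem orbitH26754 : allFrom (checkOrbit CfsgLib.CosetEnum.Fi23.H.TF 10 wordsH labH rankH oparH ogenH rootH 31671) 26754 1029 = true := by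
  decide +kernel

theorem orbitH27783 : allFrom (checkOrbit CfsgLib.CosetEnum.Fi23.H.TF 10 wordsH labH rankH oparH ogenH rootH 31671) 27783 1029 = true := by
  decide +kernel

theorem orbitH28812 : allFrom (checkOrbit CfsgLib.CosetEnum.Fi23.H.TF 10 wordsH labH rankH oparH ogenH rootH 31671) 28812 1029 = true := by
  decide +kernel

theorem orbitH29841 : allFrom (checkOrbit CfsgLib.CosetEnum.Fi23.H.TF 10 wordsH labH rankH oparH ogenH rootH 31671) 29841 1029 = true := by
  decide +kernel

theorem orbitH30870 : allFrom (checkOrbit CfsgLib.CosetEnum.Fi23.H.TF 10 wordsH labH rankH oparH ogenH rootH 31671) 30870 801 = true := by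
  decide +kernel

theorem orbitH : ∀ i < perm.n, (checkOrbit CfsgLib.CosetEnum.Fi23.H.TF 10 wordsH labH rankH oparH ogenH rootH 31671) i = true :=
  RangeChecked.all (RangeChecked.app 801 31671 (RangeChecked.app 1029 30870 (RangeChecked.app 1029 29841 (RangeChecked.app 1029 28812 (RangeChecked.app 1029 27783 (RangeChecked.app 1029 26754 (RangeChecked.app 1029 25725 (RangeChecked.app 1029 24696 (RangeChecked.app 1029 23667 (RangeChecked.app 1029 22638 (RangeChecked.app 1029 21609 (RangeChecked.app 1029 20580 (RangeChecked.app 1029 19551 (RangeChecked.app 1029 18522 (RangeChecked.app 1029 17493 (RangeChecked.app 1029 16464 (RangeChecked.app 1029 15435 (RangeChecked.app 1029 14406 (RangeChecked.app 1029 13377 (RangeChecked.app 1029 12348 (RangeChecked.app 1029 11319 (RangeChecked.app 1029 10290 (RangeChecked.app 1029 9261 (RangeChecked.app 1029 8232 (RangeChecked.app 1029 7203 (RangeChecked.app 1029 6174 (RangeChecked.app 1029 5145 (RangeChecked.app 1029 4116 (RangeChecked.app 1029 3087 (RangeChecked.app 1029 2058 (RangeChecked.app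 1029 1029 RangeChecked.zero orbitH0 rfl) orbitH1029 rfl) orbitH2058 rfl) orbitH3087 rfl) orbitH4116 rfl) orbitH5145 rfl) orbitH6174 rfl) orbitH7203 rfl) orbitH8232 rfl) orbitH9261 rfl) orbitH10290 rfl) orbitH11319 rfl) orbitH12348 rfl) orbitH13377 rfl) orbitH14406 rfl) orbitH15435 rfl) orbitH16464 rfl) orbitH17493 rfl) orbitH18522 rfl) orbitH19551 rfl) orbitH20580 rfl) orbitH21609 rfl) orbitH22638 rfl) orbitH23667 rfl) orbitH24696 rfl) orbitH25725 rfl) orbitH26754 rfl) orbitH27783 rfl) orbitH28812 rfl) orbitH29841 rfl) orbitH30870 rfl)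

end CfsgLib.CosetEnum.Fi23.Tab
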