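import Cfsg.Agent.CosetEnum.Fi23.Points.Part0
import Cfsg.Agent.CosetEnum.Fi23.Points.Part1
import Cfsg.Agent.CosetEnum.Fi23.Points.Part2
import Cfsg.Agent.CosetEnum.Fi23.Points.Part3
import Cfsg.Agent.CosetEnum.Fi23.Points.Part4
import Cfsg.Agent.CosetEnum.Fi23.Points.Part5
import Cfsg.Agent.CosetEnum.Fi23.Points.Part6
import Cfsg.Agent.CosetEnum.Fi23.Points.Part7
import Cfsg.Agent.CosetEnum.Fi23.Points.Part8
import Cfsg.Agent.CosetEnum.Fi23.Points.Part9
import Cfsg.Agent.CosetEnum.Fi23.Points.Part10
import Cfsg.Agent.CosetEnum.Fi23.Points.Part11
import Cfsg.Agent.CosetEnum.Fi23.Points.Part12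
import Cfsg.Agent.CosetEnum.Fi23.Points.Part13
import Cfsg.Agent.CosetEnum.Fi23.Points.Part14
import Cfsg.Agent.CosetEnum.Fi23.Points.Part15

/-! Generated: checks of the table. -/

set_option autoImplicit false
set_option maxRecDepth 100000

namespace CfsgLib.CosetEnum.Fi23.Tab

open CfsgLib.CosetEnum

theorem points : ∀ i < perm.n, (checkPoint (fun x => x) 10 relWords CfsgLib.CosetEnum.Fi23.H.TF CfsgLib.CosetEnum.Fi23.H.parF 31671) i = true :=
  RangeChecked.all (RangeChecked.app 183 31671 (RangeChecked.app 256 31488 (RangeChecked.app 256 31232 (RangeChecked.app 256 30976 (RangeChecked.app 256 30720 (RangeChecked.app 256 30464 (RangeChecked.app 256 30208 (RangeChecked.app 256 29952 (RangeChecked.app 256 29696 (RangeChecked.app 256 29440 (RangeChecked.app 256 29184 (RangeChecked.app 256 28928 (RangeChecked.app 256 28672 (RangeChecked.app 256 28416 (RangeChecked.app 256 28160 (RangeChecked.app 256 27904 (RangeChecked.app 256 27648 (RangeChecked.app 256 27392 (RangeChecked.app 256 27136 (RangeChecked.app 256 26880 (RangeChecked.app 256 26624 (RangeChecked.app 256 26368 (RangeChecked.app 256 26112 (RangeChecked.app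 256 25856 (RangeChecked.app 256 25600 (RangeChecked.app 256 25344 (RangeChecked.app 256 25088 (RangeChecked.app 256 24832 (RangeChecked.app 256 24576 (RangeChecked.app 256 24320 (RangeChecked.app 256 24064 (RangeChecked.app 256 23808 (RangeChecked.app 256 23552 (RangeChecked.app 256 23296 (RangeChecked.app 256 23040 (RangeChecked.app 256 22784 (RangeChecked.app 256 22528 (RangeChecked.app 256 22272 (RangeChecked.app 256 22016 (RangeChecked.app 256 21760 (RangeChecked.app 256 21504 (RangeChecked.app 256 21248 (RangeChecked.app 256 20992 (RangeChecked.app 256 20736 (RangeChecked.app 256 20480 (RangeChecked.app 256 20224 (RangeChecked.app 256 19968 (RangeChecked.app 256 19712 (RangeChecked.app 256 19456 (RangeChecked.app 256 19200 (RangeChecked.app 256 18944 (RangeChecked.app 256 18688 (RangeChecked.app 256 18432 (RangeChecked.app 256 18176 (RangeChecked.app 256 17920 (RangeChecked.app 256 17664 (RangeChecked.app 256 17408 (RangeChecked.app 256 17152 (RangeChecked.app 256 16896 (RangeChecked.app 256 16640 (RangeChecked.app 256 16384 (RangeChecked.app 256 16128 (RangeChecked.app 256 15872 (RangeChecked.app 256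 15616 (RangeChecked.app 256 15360 (RangeChecked.app 256 15104 (RangeChecked.app 256 14848 (RangeChecked.app 256 14592 (RangeChecked.app 256 14336 (RangeChecked.app 256 14080 (RangeChecked.app 256 13824 (RangeChecked.app 256 13568 (RangeChecked.app 256 13312 (RangeChecked.app 256 13056 (RangeChecked.app 256 12800 (RangeChecked.app 256 12544 (RangeChecked.app 256 12288 (RangeChecked.app 256 12032 (RangeChecked.app 256 11776 (RangeChecked.app 256 11520 (RangeChecked.app 256 11264 (RangeChecked.app 256 11008 (RangeChecked.app 256 10752 (RangeChecked.app 256 10496 (RangeChecked.app 256 10240 (RangeChecked.app 256 9984 (RangeChecked.app 256 9728 (RangeChecked.app 256 9472 (RangeChecked.app 256 9216 (RangeChecked.app 256 8960 (RangeChecked.app 256 8704 (RangeChecked.app 256 8448 (RangeChecked.app 256 8192 (RangeChecked.app 256 7936 (RangeChecked.app 256 7680 (RangeChecked.app 256 7424 (RangeChecked.app 256 7168 (RangeChecked.app 256 6912 (RangeChecked.app 256 6656 (RangeChecked.app 256 6400 (RangeChecked.app 256 6144 (RangeChecked.app 256 5888 (RangeChecked.app 256 5632 (RangeChecked.app 256 5376 (RangeChecked.app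 256 5120 (RangeChecked.app 256 4864 (RangeChecked.app 256 4608 (RangeChecked.app 256 4352 (RangeChecked.app 256 4096 (RangeChecked.app 256 3840 (RangeChecked.app 256 3584 (RangeChecked.app 256 3328 (RangeChecked.app 256 3072 (RangeChecked.app 256 2816 (RangeChecked.app 256 2560 (RangeChecked.app 256 2304 (RangeChecked.app 256 2048 (RangeChecked.app 256 1792 (RangeChecked.app 256 1536 (RangeChecked.app 256 1280 (RangeChecked.app 256 1024 (RangeChecked.app 256 768 (RangeChecked.app 256 512 (RangeChecked.app 256 256 RangeChecked.zero points0 rfl) points256 rfl) points512 rfl) points768 rfl) points1024 rfl) points1280 rfl) points1536 rfl) points1792 rfl) points2048 rfl) points2304 rfl) points2560 rfl) points2816 rfl) points3072 rfl) points3328 rfl) points3584 rfl) points3840 rfl) points4096 rfl) points4352 rfl) points4608 rfl) points4864 rfl) points5120 rfl) points5376 rfl) points5632 rfl) points5888 rfl) points6144 rfl) points6400 rfl) points6656 rfl) points6912 rfl) points7168 rfl) points7424 rfl) points7680 rfl) points7936 rfl) points8192 rfl) points8448 rfl) points8704 rfl) points8960 rfl) points9216 rfl)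 points9472 rfl) points9728 rfl) points9984 rfl) points10240 rfl) points10496 rfl) points10752 rfl) points11008 rfl) points11264 rfl) points11520 rfl) points11776 rfl) points12032 rfl) points12288 rfl) points12544 rfl) points12800 rfl) points13056 rfl) points13312 rfl) points13568 rfl) points13824 rfl) points14080 rfl) points14336 rfl) points14592 rfl) points14848 rfl) points15104 rfl) points15360 rfl) points15616 rfl) points15872 rfl) points16128 rfl) points16384 rfl) points16640 rfl) points16896 rfl) points17152 rfl) points17408 rfl) points17664 rfl) points17920 rfl) points18176 rfl) points18432 rfl) points18688 rfl) points18944 rfl) points19200 rfl) points19456 rfl) points19712 rfl) points19968 rfl) points20224 rfl) points20480 rfl) points20736 rfl) points20992 rfl) points21248 rfl) points21504 rfl) points21760 rfl) points22016 rfl) points22272 rfl) points22528 rfl) points22784 rfl) points23040 rfl) points23296 rfl) points23552 rfl) points23808 rfl) points24064 rfl) points24320 rfl) points24576 rfl) points24832 rfl) points25088 rfl) points25344 rfl) points25600 rfl) points25856 rfl) points26112 rfl) points26368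 rfl) points26624 rfl) points26880 rfl) points27136 rfl) points27392 rfl) points27648 rfl) points27904 rfl) points28160 rfl) points28416 rfl) points28672 rfl) points28928 rfl) points29184 rfl) points29440 rfl) points29696 rfl) points29952 rfl) points30208 rfl) points30464 rfl) points30720 rfl) points30976 rfl) points31232 rfl) points31488 rfl)

end CfsgLib.CosetEnum.Fi23.Tab
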